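import Mathlib.RingTheory.PowerSeries.Order
import Mathlib.RingTheory.PowerSeries.NoZeroDivisors
import Mathlib.RingTheory.Ideal.Maps
import Mathlib.LinearAlgebra.FiniteDimensional.Lemmas

/-!
Branch-length strata of ideals in a subalgebra of a product of power series rings.
-/

noncomputable section

namespace Groth.L14.HilbZeta

open Module

universe u

variable {k : Type u} [Field k]

theorem finrank_quot_map {V W : Type*} [AddCommGroup V] [Module k V] [AddCommGroup W]
    [Module k W] (L : V →ₗ[k] W) (hL : Function.Injective L) (N : Submodule k V)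
    [Module.Finite k (W ⧸ LinearMap.range L)] :
    (Module.Finite k (W ⧸ N.map L) ↔ Module.Finite k (V ⧸ N)) ∧
      (Module.Finite k (V ⧸ N) →
        finrank k (W ⧸ N.map L) = finrank k (V ⧸ N) + finrank k (W ⧸ LinearMap.range L)) := by
  let φ : (V ⧸ N) →ₗ[k] W ⧸ N.map L := N.mapQ (N.map L) L (Submodule.le_comap_map L N)
  have hφ : Function.Injective φ := by
    rw [injective_iff_map_eq_zero]
    intro x hx
    obtain ⟨v, rfl⟩ := Submodule.Quotient.mk_surjective N x
    rw [Submodule.mapQ_apply, Submodule.Quotient.mk_eq_zero] at hx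
    obtain ⟨w, hw, hwv⟩ := hx
    rw [Submodule.Quotient.mk_eq_zero, ← hL hwv]
    exact hw
  have hle : N.map L ≤ LinearMap.range L := LinearMap.map_le_range
  have hr : LinearMap.range φ = (LinearMap.range L).map (N.map L).mkQ := by
    ext y
    constructor
    · rintro ⟨x, rfl⟩
      obtain ⟨v, rfl⟩ := Submodule.Quotient.mk_surjective N x
      exact ⟨L v, ⟨v, rfl⟩, rfl⟩
    · rintro ⟨w, ⟨v, rfl⟩, rfl⟩
      exact ⟨Submodule.Quotient.mk v, rfl⟩
  let eq : ((W ⧸ N.map L) ⧸ LinearMap.range φ) ≃ₗ[k] W ⧸ LinearMap.range L :=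
    (Submodule.quotEquivOfEq _ _ hr).trans (Submodule.quotientQuotientEquivQuotient _ _ hle)
  haveI : Module.Finite k ((W ⧸ N.map L) ⧸ LinearMap.range φ) := Module.Finite.equiv eq.symm
  constructor
  · constructor
    · intro h; exact Module.Finite.of_injective φ hφ
    · intro h
      haveI : Module.Finite k (LinearMap.range φ) := Module.Finite.range φ
      exact Module.Finite.of_submodule_quotient (LinearMap.range φ)
  · intro h
    haveI : Module.Finite k (LinearMap.range φ) := Module.Finite.range φ
    haveI : Module.Finite k (W ⧸ N.map L) :=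
      Module.Finite.of_submodule_quotient (LinearMap.range φ)
    rw [← Submodule.finrank_quotient_add_finrank (LinearMap.range φ), eq.finrank_eq,
      LinearMap.finrank_range_of_inj hφ, add_comm]

variable {s : ℕ}

local notation "O" => Fin s → PowerSeries k

/-- The tuple with `X` in the `j`-th place and `1` elsewhere. -/
def xi (j : Fin s) : O := Pi.mulSingle j PowerSeries.X

theorem xi_same (j : Fin s) : (xi j : O) j = PowerSeries.X := by simp [xi]

theorem xi_ne {i j : Fin s} (h : i ≠ j) : (xi j : O) i = 1 := by simp [xi, Pi.mulSingle_eq_of_ne h]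

theorem xi_ne_zero (i j : Fin s) : (xi j : O) i ≠ 0 := by
  by_cases h : i = j
  · subst h; rw [xi_same]; exact PowerSeries.X_ne_zero
  · rw [xi_ne h]; exact one_ne_zero

theorem xi_mul_injective (j : Fin s) : Function.Injective (fun f : O => xi j * f) := by
  intro f g h
  funext i
  exact mul_left_cancel₀ (xi_ne_zero i j) (congrFun h i)

/-- Multiplication by `xi j` as a linear map. -/
def xiL (j : Fin s) : O →ₗ[k] O := LinearMap.mulLeft k (xi j)

theorem range_xiL (j : Fin s) :
    LinearMap.range (xiL (k := k) j) =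
      LinearMap.ker ((PowerSeries.coeff 0).comp (LinearMap.proj (R := k) (φ := fun _ => PowerSeries k) j)) := by
  ext f
  simp only [LinearMap.mem_range, LinearMap.mem_ker, LinearMap.comp_apply, LinearMap.proj_apply,
    PowerSeries.coeff_zero_eq_constantCoeff]
  constructor
  · rintro ⟨g, rfl⟩
    simp [xiL, xi_same]
  · intro hf
    obtain ⟨h, hh⟩ := PowerSeries.X_dvd_iff.mpr hf
    refine ⟨Function.update f j h, funext fun i => ?_⟩
    by_cases hi : i = j
    · subst hi; simp [xiL, xi_same, hh]
    · simp [xiL, xi_ne hi, hi]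

instance finite_quot_xiL (j : Fin s) : Module.Finite k (O ⧸ LinearMap.range (xiL (k := k) j)) := by
  rw [range_xiL]
  exact Module.Finite.equiv
    (LinearMap.quotKerEquivRange ((PowerSeries.coeff 0).comp
      (LinearMap.proj (R := k) (φ := fun _ => PowerSeries k) j))).symm

theorem finrank_quot_xiL (j : Fin s) :
    finrank k (O ⧸ LinearMap.range (xiL (k := k) j)) = 1 := by
  rw [range_xiL, LinearEquiv.finrank_eq (LinearMap.quotKerEquivRange _)]
  have : LinearMap.range ((PowerSeries.coeff 0).comp
      (LinearMap.proj (R := k) (φ := fun _ => PowerSeries k) j)) = ⊤ := by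
    rw [LinearMap.range_eq_top]
    intro c
    exact ⟨fun _ => PowerSeries.C c, by simp⟩
  rw [this, finrank_top, finrank_self]

variable (R : Subalgebra k (Fin s → PowerSeries k))

/-- An ideal of `R`, as a subspace of the product. -/
def IO (I : Ideal R) : Submodule k O :=
  (I.restrictScalars k).map (Subalgebra.toSubmodule R).subtype

theorem coe_IO (I : Ideal R) :
    ((IO R I : Submodule k O) : Set O) = Subtype.val '' (I : Set R) := rfl

variable {R}

theorem colength_shift [Module.Finite k (O ⧸ Subalgebra.toSubmodule R)] (j : Fin s) (I J : Ideal R)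
    (hIJ : (Subtype.val '' (J : Set R)) = (fun f => xi j * f) '' (Subtype.val '' (I : Set R))) :
    (Module.Finite k (R ⧸ J) ↔ Module.Finite k (R ⧸ I)) ∧
      (Module.Finite k (R ⧸ I) → finrank k (R ⧸ J) = finrank k (R ⧸ I) + 1) := by
  haveI : Module.Finite k (O ⧸ LinearMap.range (Subalgebra.toSubmodule R).subtype) := by
    rw [Submodule.range_subtype]; infer_instance
  have hmap : IO R J = (IO R I).map (xiL j) := by
    apply SetLike.coe_injective
    rw [coe_IO, hIJ, Submodule.map_coe, coe_IO]
    rfl
  have hI := finrank_quot_map (Subalgebra.toSubmodule R).subtype Subtype.val_injective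
    (I.restrictScalars k)
  have hJ := finrank_quot_map (Subalgebra.toSubmodule R).subtype Subtype.val_injective
    (J.restrictScalars k)
  have hX := finrank_quot_map (xiL j) (xi_mul_injective j) (IO R I)
  let eI := Submodule.Quotient.restrictScalarsEquiv k I
  let eJ := Submodule.Quotient.restrictScalarsEquiv k J
  have fI : Module.Finite k (R ⧸ I.restrictScalars k) ↔ Module.Finite k (R ⧸ I) :=
    Module.Finite.equiv_iff eI
  have fJ : Module.Finite k (R ⧸ J.restrictScalars k) ↔ Module.Finite k (R ⧸ J) :=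
    Module.Finite.equiv_iff eJ
  have hfin : Module.Finite k (R ⧸ J) ↔ Module.Finite k (R ⧸ I) := by
    rw [← fI, ← fJ]
    refine Iff.trans hJ.1.symm (Iff.trans ?_ hI.1)
    have e : (J.restrictScalars k).map (Subalgebra.toSubmodule R).subtype
        = ((I.restrictScalars k).map (Subalgebra.toSubmodule R).subtype).map (xiL j) := hmap
    rw [e]
    exact hX.1
  refine ⟨hfin, fun h => ?_⟩
  have h1 := hJ.2 (fJ.mpr (hfin.mpr h))
  have h2 := hI.2 (fI.mpr h)
  have h3 := hX.2 (hI.1.mpr (fI.mpr h))
  have a1 : finrank k (R ⧸ I.restrictScalars k) = finrank k (R ⧸ I) := eI.finrank_eq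
  have a2 : finrank k (R ⧸ J.restrictScalars k) = finrank k (R ⧸ J) := eJ.finrank_eq
  have e1 : finrank k (O ⧸ IO R J) = finrank k (R ⧸ J) +
      finrank k (O ⧸ LinearMap.range (Subalgebra.toSubmodule R).subtype) := by
    rw [← a2]; exact h1
  have e2 : finrank k (O ⧸ IO R I) = finrank k (R ⧸ I) +
      finrank k (O ⧸ LinearMap.range (Subalgebra.toSubmodule R).subtype) := by
    rw [← a1]; exact h2
  have e3 : finrank k (O ⧸ IO R J) = finrank k (O ⧸ IO R I) + 1 := by
    rw [hmap, h3, finrank_quot_xiL]
  omega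

theorem map_eval_shift (j i : Fin s) (I J : Ideal R)
    (hIJ : (Subtype.val '' (J : Set R)) = (fun f => xi j * f) '' (Subtype.val '' (I : Set R))) :
    Ideal.map ((Pi.evalAlgHom k (fun _ : Fin s => PowerSeries k) i).comp R.val) J =
      Ideal.span {(xi j : O) i} *
        Ideal.map ((Pi.evalAlgHom k (fun _ : Fin s => PowerSeries k) i).comp R.val) I := by
  simp only [Ideal.map]
  rw [Ideal.span_mul_span', Set.singleton_mul]
  congr 1
  ext z
  simp only [Set.mem_image]
  constructor
  · rintro ⟨g, hg, rfl⟩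
    have : (g : O) ∈ Subtype.val '' (J : Set R) := ⟨g, hg, rfl⟩
    rw [hIJ] at this
    obtain ⟨_, ⟨f, hf, rfl⟩, hfg⟩ := this
    exact ⟨_, ⟨f, hf, rfl⟩, congrFun hfg i⟩
  · rintro ⟨_, ⟨f, hf, rfl⟩, rfl⟩
    have : xi j * (f : O) ∈ Subtype.val '' (J : Set R) := by
      rw [hIJ]; exact ⟨_, ⟨f, hf, rfl⟩, rfl⟩
    obtain ⟨g, hg, hgv⟩ := this
    exact ⟨g, hg, congrFun hgv i⟩

theorem span_xi (j i : Fin s) (a : Fin s → ℕ) :
    Ideal.span {(xi j : O) i} * Ideal.span {(PowerSeries.X : PowerSeries k) ^ a i} =
      Ideal.span {PowerSeries.X ^ (Function.update a j (a j + 1)) i} := by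
  rw [Ideal.span_singleton_mul_span_singleton]
  by_cases h : i = j
  · subst h; rw [xi_same, Function.update_self, pow_succ']
  · rw [xi_ne h, one_mul, Function.update_of_ne h]

theorem shift_mem_iff (c : Fin s → ℕ)
    (hc : ∀ f : O, (∀ g : O, g * f ∈ R) ↔ ∀ i, ((c i : ℕ) : ℕ∞) ≤ (f i).order)
    (j : Fin s) (f : O) (hf : PowerSeries.X ^ c j ∣ f j) : xi j * f ∈ R ↔ f ∈ R := by
  have hd : xi j * f - f ∈ R := by
    have h1 : ∀ g : O, g * (xi j * f - f) ∈ R := by
      refine (hc _).mpr fun i => ?_
      rw [Pi.sub_apply, Pi.mul_apply]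
      by_cases h : i = j
      · subst h
        refine PowerSeries.nat_le_order _ _ fun n hn => ?_
        exact PowerSeries.X_pow_dvd_iff.mp (dvd_sub (hf.mul_left _) hf) n hn
      · rw [xi_ne h, one_mul, sub_self, PowerSeries.order_zero]; exact le_top
    simpa using h1 1
  constructor
  · intro h; simpa using R.sub_mem h hd
  · intro h; simpa using R.add_mem hd h

theorem dvd_of_map (j : Fin s) (m : ℕ) (I : Ideal R)
    (hI : Ideal.map ((Pi.evalAlgHom k (fun _ : Fin s => PowerSeries k) j).comp R.val) I
      = Ideal.span {PowerSeries.X ^ m}) (f : R) (hf : f ∈ I) :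
    PowerSeries.X ^ m ∣ (f : O) j := by
  rw [← Ideal.mem_span_singleton, ← hI]
  exact Ideal.mem_map_of_mem _ hf

end Groth.L14.HilbZeta
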